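import Mathlib

/-! Orbit counting with invariant matrices: a set all of whose orbitals are symmetric has at most
as many orbits under a point stabiliser of `X` as `X` itself. -/

set_option autoImplicit false

namespace Cfsg.Agent.SR

open Module Matrix MulAction

variable (G : Type*) [Group G] (X Y : Type*) [MulAction G X] [MulAction G Y]

/-- invariant matrices -/
def InvM : Submodule ℝ (Matrix X Y ℝ) where
  carrier := {M | ∀ (g : G) x y, M (g • x) (g • y) = M x y}
  add_mem' hM hN g x y := by simp [hM g, hN g]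
  zero_mem' _ _ _ := rfl
  smul_mem' c M hM g x y := by simp [hM g]

variable {G X Y}

theorem InvM.tr {M : Matrix X Y ℝ} (h : M ∈ InvM G X Y) : Mᵀ ∈ InvM G Y X := fun g y x => h g x y

theorem InvM.mul {Z : Type*} [MulAction G Z] [Fintype Y] {M : Matrix X Y ℝ} {N : Matrix Y Z ℝ}
    (h : M ∈ InvM G X Y) (h' : N ∈ InvM G Y Z) : M * N ∈ InvM G X Z := fun g x z => by
  simp only [Matrix.mul_apply]
  rw [← Equiv.sum_comp (MulAction.toPerm g)]
  exact Finset.sum_congr rfl fun y _ => by rw [MulAction.toPerm_apply, h g, h' g]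

theorem InvM.one [DecidableEq X] : (1 : Matrix X X ℝ) ∈ InvM G X X := fun g x y => by
  simp [Matrix.one_apply]

theorem finrank_invM [IsPretransitive G X] [Finite Y] (x : X) :
    finrank ℝ (InvM G X Y) = Nat.card (orbitRel.Quotient (stabilizer G x) Y) := by
  let T : InvM G X Y →ₗ[ℝ] (orbitRel.Quotient (stabilizer G x) Y → ℝ) :=
    { toFun := fun M q => M.1 x q.out
      map_add' := fun _ _ => rfl
      map_smul' := fun _ _ => rfl }
  have key : ∀ (M : InvM G X Y) (y : Y), M.1 x (Quotient.mk (orbitRel (stabilizer G x) Y) y).out =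
      M.1 x y := fun M y => by
    obtain ⟨⟨g, hg⟩, e⟩ := Quotient.mk_out (s := orbitRel (stabilizer G x) Y) y
    rw [← e, ← M.2 g x y, mem_stabilizer_iff.1 hg]; rfl
  have hi : Function.Injective T := by
    rw [injective_iff_map_eq_zero]
    intro M hM
    ext x' y
    obtain ⟨g, rfl⟩ := exists_smul_eq G x x'
    have := congrFun hM (Quotient.mk _ (g⁻¹ • y))
    rw [← smul_inv_smul g y, M.2 g]
    exact (key M _).symm.trans this
  have hs : Function.Surjective T := by
    intro f
    choose t ht using fun x' => exists_smul_eq G x x'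
    refine ⟨⟨fun x' y => f (Quotient.mk _ ((t x')⁻¹ • y)), fun g x' y => congrArg f
      (Quotient.sound ⟨⟨(t (g • x'))⁻¹ * g * t x', ?_⟩, ?_⟩)⟩, funext fun q => ?_⟩
    · rw [mem_stabilizer_iff, mul_smul, ht, mul_smul, inv_smul_eq_iff, ht]
    · show ((t (g • x'))⁻¹ * g * t x') • (t x')⁻¹ • y = _
      rw [mul_smul, smul_inv_smul, mul_smul]
    · show f _ = f q
      congr 1
      rw [← q.out_eq, Quotient.out_eq]
      nth_rewrite 2 [← q.out_eq]
      exact Quotient.sound ⟨⟨(t x)⁻¹, inv_mem (ht x)⟩, rfl⟩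
  haveI := Fintype.ofFinite (orbitRel.Quotient (stabilizer G x) Y)
  rw [(LinearEquiv.ofBijective T ⟨hi, hs⟩).finrank_eq, finrank_fintype_fun_eq_card,
    Nat.card_eq_fintype_card]

theorem card_le_of_mul_eq_one [Fintype X] [Fintype Y] [DecidableEq X] {M : Matrix X Y ℝ}
    {N : Matrix Y X ℝ} (h : M * N = 1) : Fintype.card X ≤ Fintype.card Y := by
  rw [← Matrix.rank_one (R := ℝ), ← h]
  exact (Matrix.rank_mul_le_left M N).trans (Matrix.rank_le_card_width M)

theorem exists_gen [Fintype X] [Fintype Y] (hs : ∀ y y' : Y, ∃ g : G, g • y = y' ∧ g • y' = y) :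
    ∃ M ∈ InvM G X Y, ∀ N ∈ InvM G X Y, N * Mᵀ = 0 → N = 0 := by
  classical
  obtain ⟨⟨M, hM⟩, hmin⟩ := (InvImage.wf (fun M : InvM G X Y =>
    finrank ℝ (LinearMap.ker M.1.mulVecLin)) Nat.lt_wfRel.wf).has_min Set.univ ⟨0, trivial⟩
  refine ⟨M, hM, fun N hN h => ?_⟩
  have h1 : M * Nᵀ = 0 := by simpa using congrArg Matrix.transpose h
  have h2 : (Mᵀ * N)ᵀ = Mᵀ * N := by
    ext y y'
    obtain ⟨g, e1, e2⟩ := hs y y'
    rw [transpose_apply, ← (InvM.mul (InvM.tr hM) hN) g y y', e1, e2]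
  have h3 : Mᵀ * N = 0 := by
    rw [← self_mul_conjTranspose_eq_zero, conjTranspose_eq_transpose_of_trivial]
    nth_rewrite 1 [← h2]
    rw [transpose_mul, transpose_transpose, Matrix.mul_assoc, ← Matrix.mul_assoc M, h1]
    simp
  have h4 : LinearMap.ker (M + N).mulVecLin ≤ LinearMap.ker M.mulVecLin := fun v hv => by
    rw [← ker_mulVecLin_transpose_mul_self, LinearMap.mem_ker, mulVecLin_apply]
    have : (Mᵀ * (M + N)) *ᵥ v = 0 := by
      rw [← mulVec_mulVec, show (M + N) *ᵥ v = 0 from hv, mulVec_zero]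
    rwa [Matrix.mul_add, h3, add_zero] at this
  have h5 := Submodule.eq_of_le_of_finrank_le h4
    (not_lt.1 (hmin.2 ⟨M + N, (InvM G X Y).add_mem hM hN⟩ trivial))
  rw [← self_mul_conjTranspose_eq_zero, conjTranspose_eq_transpose_of_trivial]
  ext x x'
  have h6 : M *ᵥ (N x') = 0 := funext fun z => congrFun (congrFun h1 z) x'
  have h7 : (M + N) *ᵥ (N x') = 0 := (h5.ge (show N x' ∈ LinearMap.ker M.mulVecLin from h6) :)
  rw [add_mulVec, h6, zero_add] at h7
  exact congrFun h7 x

theorem finrank_le_and [Finite X] [Finite Y] (hs : ∀ y y' : Y, ∃ g : G, g • y = y' ∧ g • y' = y) :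
    finrank ℝ (InvM G X Y) ≤ finrank ℝ (InvM G X X) ∧
    (finrank ℝ (InvM G X X) ≤ finrank ℝ (InvM G X Y) → finrank ℝ (InvM G Y Y) ≤
      finrank ℝ (InvM G X Y) → Nat.card X = Nat.card Y) := by
  classical
  haveI := Fintype.ofFinite X
  haveI := Fintype.ofFinite Y
  obtain ⟨M, hM, h⟩ := exists_gen (X := X) hs
  let Φ : InvM G X Y →ₗ[ℝ] InvM G X X :=
    { toFun := fun N => ⟨N.1 * Mᵀ, InvM.mul N.2 (InvM.tr hM)⟩
      map_add' := fun N N' => Subtype.ext (Matrix.add_mul _ _ _)
      map_smul' := fun c N => Subtype.ext (Matrix.smul_mul _ _ _) }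
  have hΦ : Function.Injective Φ := by
    rw [injective_iff_map_eq_zero]
    exact fun N hN => Subtype.ext (h N N.2 (congrArg Subtype.val hN))
  have h1 := LinearMap.finrank_le_finrank_of_injective hΦ
  refine ⟨h1, fun h2 h3 => ?_⟩
  obtain ⟨N, hN⟩ := (LinearMap.injective_iff_surjective_of_finrank_eq_finrank
    (le_antisymm h1 h2)).1 hΦ ⟨1, InvM.one⟩
  have hN' : N.1 * Mᵀ = 1 := congrArg Subtype.val hN
  let Ψ : InvM G X Y →ₗ[ℝ] InvM G Y Y :=
    { toFun := fun N => ⟨Mᵀ * N.1, InvM.mul (InvM.tr hM) N.2⟩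
      map_add' := fun N N' => Subtype.ext (Matrix.mul_add _ _ _)
      map_smul' := fun c N => Subtype.ext (Matrix.mul_smul _ _ _) }
  have hΨ : Function.Injective Ψ := by
    rw [injective_iff_map_eq_zero]
    intro K hK
    have : Mᵀ * K.1 = 0 := congrArg Subtype.val hK
    apply Subtype.ext
    rw [← Matrix.one_mul K.1, ← hN', Matrix.mul_assoc, this]; simp
  obtain ⟨K, hK⟩ := (LinearMap.injective_iff_surjective_of_finrank_eq_finrank
    (le_antisymm (LinearMap.finrank_le_finrank_of_injective hΨ) h3)).1 hΨ ⟨1, InvM.one⟩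
  rw [Nat.card_eq_fintype_card, Nat.card_eq_fintype_card]
  exact le_antisymm (card_le_of_mul_eq_one hN') (card_le_of_mul_eq_one (congrArg Subtype.val hK))

/-- **Orbit inequality.** -/
theorem orb_le [Finite X] [Finite Y] [IsPretransitive G X] (x : X)
    (hs : ∀ y y' : Y, ∃ g : G, g • y = y' ∧ g • y' = y) :
    Nat.card (orbitRel.Quotient (stabilizer G x) Y) ≤
      Nat.card (orbitRel.Quotient (stabilizer G x) X) := by
  rw [← finrank_invM, ← finrank_invM]
  exact (finrank_le_and hs).1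

/-- The case of equality. -/
theorem card_eq_of_orb [Finite X] [Finite Y] [IsPretransitive G X] (x : X) (y : Y)
    (hs : ∀ y y' : Y, ∃ g : G, g • y = y' ∧ g • y' = y)
    (h1 : Nat.card (orbitRel.Quotient (stabilizer G x) X) ≤
      Nat.card (orbitRel.Quotient (stabilizer G x) Y))
    (h2 : Nat.card (orbitRel.Quotient (stabilizer G y) Y) ≤
      Nat.card (orbitRel.Quotient (stabilizer G x) Y)) : Nat.card X = Nat.card Y := by
  haveI : IsPretransitive G Y := ⟨fun y y' => (hs y y').imp fun _ h => h.1⟩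
  rw [← finrank_invM, ← finrank_invM] at h1 h2
  exact (finrank_le_and hs).2 h1 h2

theorem card_orb_le {H ι : Type*} [Group H] [MulAction H Y] [Finite ι] (c : Y → ι)
    (hc : ∀ y y', c y = c y' → ∃ h : H, h • y = y') :
    Nat.card (orbitRel.Quotient H Y) ≤ Nat.card ι :=
  Nat.card_le_card_of_injective (fun q => c q.out) fun q q' e => by
    rw [← q.out_eq, ← q'.out_eq]
    exact Quotient.sound (hc _ _ e.symm)

theorem exists_conj_of_card_lt {H : Type*} [Group H] [MulAction H Y] [Finite Y] {n : ℕ}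
    (h : Nat.card (orbitRel.Quotient H Y) < n) (A : Fin n → Y) :
    ∃ i i', i ≠ i' ∧ ∃ g : H, g • A i = A i' := by
  haveI := Fintype.ofFinite (orbitRel.Quotient H Y)
  obtain ⟨i, i', hne, e⟩ := Fintype.exists_ne_map_eq_of_card_lt
    (fun i => (Quotient.mk (orbitRel H Y) (A i) : orbitRel.Quotient H Y))
    (by rwa [← Nat.card_eq_fintype_card, Fintype.card_fin])
  exact ⟨i, i', hne, Quotient.exact e.symm⟩

end Cfsg.Agent.SR
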